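import Groth.Agent.InvBasic.OfBasis
import Groth.Agent.LocFreeAnn.Free
import Groth.Agent.LocFreeAnn.Factor
import Groth.Agent.QCohLib.Cover
import Groth.Agent.QCohLib.Criterion
import Groth.Prelude.Def_FlatMod2
import Groth.Prelude.Def_Mor2
import Mathlib.AlgebraicGeometry.Morphisms.FlatRank
import Mathlib.RingTheory.Localization.Free
import Mathlib.Algebra.Module.LocalizedModule.IsLocalization
import Mathlib.RingTheory.LocalRing.Module
import Mathlib.RingTheory.Finiteness.ModuleFinitePresentation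

/-!
# The direct image of the structure sheaf of a finite locally free morphism
-/

universe u

open CategoryTheory CategoryTheory.Limits AlgebraicGeometry TopologicalSpace Opposite

set_option backward.isDefEq.respectTransparency false
set_option linter.style.haveILetI false

namespace Groth.Agent.FinLocFree

section algebra

variable {A : Type u} [CommRing A]

theorem exists_basis_away {A' B B' : Type u} [CommRing A'] [CommRing B] [CommRing B'] [Algebra A A'] [Algebra A B]
    [Algebra A B'] [Algebra A' B'] [Algebra B B'] [IsScalarTower A A' B'] [IsScalarTower A B B'] (r : A)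
    [IsLocalization.Away r A'] [IsLocalization.Away (algebraMap A B r) B'] {d : ℕ}
    (bas : Module.Basis (Fin d) (Localization (Submonoid.powers r)) (LocalizedModule.Away r B)) :
    ∃ b : Fin d → B', Function.Bijective fun c : Fin d → A' => ∑ i, c i • b i := by
  haveI : IsLocalization (Algebra.algebraMapSubmonoid B (Submonoid.powers r)) B' := by
    rw [Algebra.algebraMapSubmonoid, Submonoid.map_powers]; infer_instance
  let g : B →ₗ[A] B' := (IsScalarTower.toAlgHom A B B').toLinearMap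
  haveI : IsLocalizedModule (Submonoid.powers r) g := isLocalizedModule_iff_isLocalization.2 ‹_›
  let e : LocalizedModule.Away r B ≃ₗ[A] B' := IsLocalizedModule.iso (Submonoid.powers r) g
  let φ : Localization (Submonoid.powers r) ≃ₐ[A] A' := IsLocalization.algEquiv (Submonoid.powers r) _ _
  have hsemi : ∀ (a : Localization (Submonoid.powers r)) m, e (a • m) = φ a • e m := fun a m => by
    obtain ⟨⟨x, s⟩, hx⟩ := IsLocalization.surj (Submonoid.powers r) a
    have hx' : s.1 • a = algebraMap A _ x := by rw [← hx, Algebra.smul_def, mul_comm]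
    refine ((Module.End.isUnit_iff _).1 (IsLocalizedModule.map_units g s)).1 ?_
    simp only [Module.algebraMap_end_apply]
    rw [← map_smul e, ← smul_assoc, hx', algebraMap_smul, map_smul, ← smul_assoc, ← map_smul φ, hx', φ.commutes,
      algebraMap_smul]
  refine ⟨fun i => e (bas i), ?_⟩
  have h : (fun c : Fin d → A' => ∑ i, c i • e (bas i)) =
      e ∘ bas.equivFun.symm ∘ fun c i => φ.symm (c i) := by
    funext c
    simp only [Function.comp_apply, Module.Basis.equivFun_symm_apply, map_sum, hsemi, AlgEquiv.apply_symm_apply]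
  rw [h]
  exact e.bijective.comp (bas.equivFun.symm.bijective.comp (Function.Bijective.piMap fun _ => φ.symm.bijective))

end algebra

variable {X S : Scheme.{u}}

/-- An affine chart of an affine morphism. -/
theorem isPullback_app (f : X ⟶ S) [IsAffineHom f] {U : S.Opens} (hU : IsAffineOpen U) :
    IsPullback (hU.preimage f).fromSpec (Spec.map (f.app U)) f hU.fromSpec := by
  refine (IsOpenImmersion.isPullback (Spec.map (f.app U)) (hU.preimage f).fromSpec hU.fromSpec f ?_ ?_).flip
  · rw [f.app_eq_appLE, hU.SpecMap_appLE_fromSpec f (hU.preimage f) le_rfl]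
  · rw [IsAffineOpen.opensRange_fromSpec, IsAffineOpen.opensRange_fromSpec]

theorem restrict_of_SpecMap_app (P : MorphismProperty Scheme.{u}) [P.RespectsIso] (f : X ⟶ S) [IsAffineHom f]
    {U : S.Opens} (hU : IsAffineOpen U) (h : P (Spec.map (f.app U))) : P (f ∣_ U) := by
  have h1 : P (pullback.snd f hU.fromSpec) := by
    rw [← (isPullback_app f hU).isoPullback_inv_snd]
    exact (P.cancel_left_of_respectsIso _ _).2 h
  have h2 := (P.arrow_mk_iso_iff (morphismRestrictOpensRange f hU.fromSpec)).2 h1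
  rwa [hU.opensRange_fromSpec] at h2

/-- The rank at a point in terms of an affine chart. -/
theorem finrank_eq_rankAtStalk (f : X ⟶ S) [IsFinite f] [Flat f] {U : S.Opens} (hU : IsAffineOpen U) {x : S}
    (hx : x ∈ U) : letI := (f.app U).hom.toAlgebra
    f.finrank x = Module.rankAtStalk (R := Γ(S, U)) Γ(X, f ⁻¹ᵁ U) (hU.primeIdealOf ⟨x, hx⟩) := by
  letI := (f.app U).hom.toAlgebra
  have h := isPullback_app f hU
  have h1 := Scheme.Hom.finrank_of_isPullback _ _ _ _ h (hU.primeIdealOf ⟨x, hx⟩)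
  rw [IsAffineOpen.fromSpec_primeIdealOf] at h1
  rw [← h1]
  haveI : Module.Finite Γ(S, U) Γ(X, f ⁻¹ᵁ U) := f.finite_app U hU
  haveI : Module.Flat Γ(S, U) Γ(X, f ⁻¹ᵁ U) := by
    have := f.flat_appLE hU (hU.preimage f) le_rfl
    rw [← f.app_eq_appLE] at this
    exact this
  exact Scheme.Hom.finrank_SpecMap_algebraMap Γ(S, U) Γ(X, f ⁻¹ᵁ U) _

/-- Bases of the direct image of a finite locally free morphism. -/
theorem exists_basis_near (f : X ⟶ S) [IsFinite f] [Flat f] [LocallyOfFinitePresentation f] (x : S) :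
    ∃ (D : S.Opens) (_ : IsAffineOpen D) (b : Fin (f.finrank x) → Γ(X, f ⁻¹ᵁ D)), x ∈ D ∧
      Function.Bijective fun c : Fin (f.finrank x) → Γ(S, D) => ∑ i, f.app D (c i) * b i := by
  obtain ⟨U, hU, hxU, -⟩ := exists_isAffineOpen_mem_and_subset (X := S) (x := x) (U := ⊤) (Set.mem_univ _)
  letI := (f.app U).hom.toAlgebra
  haveI : Module.Finite Γ(S, U) Γ(X, f ⁻¹ᵁ U) := f.finite_app U hU
  haveI : Module.Flat Γ(S, U) Γ(X, f ⁻¹ᵁ U) := by
    have := f.flat_appLE hU (hU.preimage f) le_rfl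
    rw [← f.app_eq_appLE] at this
    exact this
  haveI : Algebra.FinitePresentation Γ(S, U) Γ(X, f ⁻¹ᵁ U) := by
    have := HasRingHomProperty.appLE @LocallyOfFinitePresentation f ‹_› ⟨U, hU⟩ ⟨_, hU.preimage f⟩ le_rfl
    rw [← f.app_eq_appLE] at this
    exact this
  haveI : Module.FinitePresentation Γ(S, U) Γ(X, f ⁻¹ᵁ U) := .of_finite_of_finitePresentation _ _
  let p := hU.primeIdealOf ⟨x, hxU⟩
  haveI := p.isPrime
  haveI : Module.Free (Localization.AtPrime p.asIdeal) (LocalizedModule p.asIdeal.primeCompl Γ(X, f ⁻¹ᵁ U)) :=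
    Module.free_of_flat_of_isLocalRing
  obtain ⟨r, hr, hfree, hrank⟩ := Module.FinitePresentation.exists_free_localizedModule_powers p.asIdeal.primeCompl
    (LocalizedModule.mkLinearMap p.asIdeal.primeCompl Γ(X, f ⁻¹ᵁ U)) (Localization.AtPrime p.asIdeal)
  replace hrank : _ = f.finrank x := hrank.trans (finrank_eq_rankAtStalk f hU hxU).symm
  let D := S.basicOpen r
  have hxD : x ∈ D := by
    have h0 : p ∈ hU.fromSpec ⁻¹ᵁ D := by rw [hU.fromSpec_preimage_basicOpen]; exact hr
    change hU.fromSpec p ∈ D at h0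
    rwa [hU.fromSpec_primeIdealOf ⟨x, hxU⟩] at h0
  haveI : Nontrivial (Localization (Submonoid.powers r)) :=
    (IsLocalization.map (M := Submonoid.powers r) (T := p.asIdeal.primeCompl) (Localization.AtPrime p.asIdeal)
      (RingHom.id _) (Submonoid.powers_le.mpr hr) : Localization (Submonoid.powers r) →+* _).domain_nontrivial
  let bas := Module.finBasisOfFinrankEq (Localization (Submonoid.powers r))
    (LocalizedModule.Away r Γ(X, f ⁻¹ᵁ U)) hrank
  have hDU : D ≤ U := S.basicOpen_le r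
  have hpre : f ⁻¹ᵁ D ≤ f ⁻¹ᵁ U := fun _ hy => hDU hy
  letI : Algebra Γ(S, U) Γ(S, D) := (S.presheaf.map (homOfLE hDU).op).hom.toAlgebra
  letI : Algebra Γ(S, D) Γ(X, f ⁻¹ᵁ D) := (f.app D).hom.toAlgebra
  letI : Algebra Γ(X, f ⁻¹ᵁ U) Γ(X, f ⁻¹ᵁ D) := (X.presheaf.map (homOfLE hpre).op).hom.toAlgebra
  letI : Algebra Γ(S, U) Γ(X, f ⁻¹ᵁ D) := ((f.app U) ≫ X.presheaf.map (homOfLE hpre).op).hom.toAlgebra
  haveI : IsScalarTower Γ(S, U) Γ(X, f ⁻¹ᵁ U) Γ(X, f ⁻¹ᵁ D) := .of_algebraMap_eq fun _ => rfl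
  haveI : IsScalarTower Γ(S, U) Γ(S, D) Γ(X, f ⁻¹ᵁ D) := .of_algebraMap_eq fun a =>
    (congr($(f.naturality (homOfLE hDU).op) a)).symm
  haveI : IsLocalization.Away r Γ(S, D) := hU.isLocalization_basicOpen r
  haveI : IsLocalization.Away (algebraMap Γ(S, U) Γ(X, f ⁻¹ᵁ U) r) Γ(X, f ⁻¹ᵁ D) :=
    (hU.preimage f).isLocalization_of_eq_basicOpen _ (homOfLE hpre) (Scheme.preimage_basicOpen f r)
  obtain ⟨b, hb⟩ := exists_basis_away (A' := Γ(S, D)) (B' := Γ(X, f ⁻¹ᵁ D)) r bas
  exact ⟨D, hU.basicOpen r, b, hxD, hb⟩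

theorem bijective_eq_open {M : S.Modules} {U V : S.Opens} (h : V ≤ U) (h' : U ≤ V) {n : ℕ} {b : Fin n → Γ(M, U)}
    (hb : Function.Bijective fun c : Fin n → Γ(S, U) => ∑ i, c i • b i) :
    Function.Bijective fun c : Fin n → Γ(S, V) => ∑ i, c i • M.presheaf.map (homOfLE h).op (b i) := by
  obtain rfl := le_antisymm h h'
  convert hb using 4 with c i
  exact QCohLib.map_self M h (b i)

/-- A basis over an affine open trivialises a quasi-coherent module. -/
theorem nonempty_restrict_iso_free {M : S.Modules} [M.IsQuasicoherent] {U : S.Opens} (hU : IsAffineOpen U)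
    {n : ℕ} (b : Fin n → Γ(M, U)) (hb : Function.Bijective fun c : Fin n → Γ(S, U) => ∑ i, c i • b i) :
    Nonempty (M.restrict U.ι ≅ FlatMod.freeMod (↑U) n) := by
  haveI := LocFreeAnn.isQuasicoherent_freeMod (U : Scheme.{u}) n
  haveI : (M.restrict U.ι).IsQuasicoherent := Scheme.Modules.isQuasicoherent_restrictFunctor U.ι M
  haveI : IsAffine (U : Scheme.{u}) := hU
  let φ : FlatMod.freeMod (↑U) n ⟶ M.restrict U.ι := Sigma.desc fun i => InvBasic.basisHom M (b i)
  haveI : IsIso φ := QCohLib.isIso_of_cover_bijective (fun _ : PUnit.{1} => (⊤ : (U : Scheme.{u}).Opens))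
    (fun _ => isAffineOpen_top _) (fun x => ⟨PUnit.unit, trivial⟩) φ fun _ => by
      rw [LocFreeAnn.free_app_bijective_iff]
      have h' : U ≤ U.ι ''ᵁ ⊤ := U.ι_image_top.ge
      refine Eq.mp (congrArg Function.Bijective (funext fun c => ?_))
        (bijective_eq_open (InvBasic.ι_image_le U ⊤) h' hb)
      refine Finset.sum_congr rfl fun i _ => ?_
      have hgen : φ.app ⊤ (LocFreeAnn.gen (↑U) n i) = (InvBasic.basisHom M (b i)).app ⊤ (1 : Γ((U : Scheme.{u}), ⊤)) := by
        rw [LocFreeAnn.gen, ← LocFreeAnn.app_comp, Sigma.ι_desc]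
      rw [hgen, QCohLib.map_self]
      refine Eq.trans ?_ (InvBasic.restrict_smul_eq M U ⊤ (c i) _).symm
      refine congrArg ((show Γ(S, U.ι ''ᵁ ⊤) from c i) • ·) ?_
      exact (one_smul Γ(S, U.ι ''ᵁ ⊤) _).symm
  exact ⟨(asIso φ).symm⟩

/-- The direct image of the structure sheaf of a finite locally free morphism. -/
theorem isFinLocFreeOfRank_push (f : X ⟶ S) [IsFinite f] [Flat f] [LocallyOfFinitePresentation f] {d : ℕ}
    (hd : ∀ s, f.finrank s = d) :
    FlatMod.IsFinLocFreeOfRank d ((Scheme.Modules.pushforward f).obj (Coh.structureModule X)) := by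
  intro x
  obtain ⟨D, hD, b, hx, hb⟩ := exists_basis_near f x
  haveI : (Coh.structureModule X).IsQuasicoherent := CohVanish.isQuasicoherent_oMod X
  haveI := QCohLib.isQuasicoherent_pushforward f (M := Coh.structureModule X)
  obtain rfl := hd x
  obtain ⟨e⟩ := nonempty_restrict_iso_free (M := (Scheme.Modules.pushforward f).obj (Coh.structureModule X)) hD b hb
  exact ⟨D, hx, ⟨e⟩⟩

/-- Finite locally free direct images give bases on an affine cover. -/
theorem exists_basis_of_push (f : X ⟶ S) {M : S.Modules} (hM : M = (Scheme.Modules.pushforward f).obj (Coh.structureModule X))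
    {U : S.Opens} {n : ℕ} (e : M.restrict U.ι ≅ FlatMod.freeMod (↑U) n) {V : S.Opens} (hV : V ≤ U) :
    ∃ b : Fin n → Γ(X, f ⁻¹ᵁ V), Function.Bijective fun c : Fin n → Γ(S, V) => ∑ i, f.app V (c i) * b i := by
  subst hM
  obtain ⟨b, hb⟩ := LocFreeAnn.exists_basis e
  exact ⟨fun i => X.presheaf.map (homOfLE (show f ⁻¹ᵁ V ≤ f ⁻¹ᵁ U from fun _ hy => hV hy)).op (b i), hb V hV⟩

/-- An affine morphism with finite locally free direct image is finite locally free. -/
theorem isFinLocFree_of_push (f : X ⟶ S) [IsAffineHom f]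
    (h : FlatMod.IsFinLocFree ((Scheme.Modules.pushforward f).obj (Coh.structureModule X))) :
    IsFinite f ∧ Flat f ∧ LocallyOfFinitePresentation f := by
  have key : ∀ x : S, ∃ (V : S.Opens), x ∈ V ∧ ∃ hV : IsAffineOpen V,
      (f.app V).hom.Finite ∧ (f.app V).hom.Flat ∧ (f.app V).hom.FinitePresentation := by
    intro x
    obtain ⟨U, n, hxU, ⟨e⟩⟩ := h x
    obtain ⟨V, hV, hxV, hVU⟩ := Opens.isBasis_iff_nbhd.mp S.isBasis_affineOpens hxU
    obtain ⟨b, hb⟩ := exists_basis_of_push f rfl e hVU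
    refine ⟨V, hxV, hV, ?_⟩
    algebraize [(f.app V).hom]
    let e' : (Fin n → Γ(S, V)) ≃ₗ[Γ(S, V)] Γ(X, f ⁻¹ᵁ V) :=
      LinearEquiv.ofBijective (Fintype.linearCombination Γ(S, V) b) (by
        convert hb using 1
        funext c
        simp only [Fintype.linearCombination_apply, Algebra.smul_def]
        rfl)
    haveI : Module.Free Γ(S, V) Γ(X, f ⁻¹ᵁ V) := Module.Free.of_equiv e'
    haveI : Module.Finite Γ(S, V) Γ(X, f ⁻¹ᵁ V) := Module.Finite.equiv e'
    haveI : Module.FinitePresentation Γ(S, V) Γ(X, f ⁻¹ᵁ V) := Module.finitePresentation_of_projective _ _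
    haveI : Algebra.FinitePresentation Γ(S, V) Γ(X, f ⁻¹ᵁ V) := .of_finitePresentation _ _
    exact ⟨RingHom.finite_algebraMap.2 inferInstance, RingHom.flat_algebraMap_iff.2 inferInstance,
      RingHom.finitePresentation_algebraMap.2 inferInstance⟩
  choose V hxV hV h1 h2 h3 using key
  have hsup : iSup V = ⊤ := top_le_iff.1 fun x _ => Opens.mem_iSup.2 ⟨x, hxV x⟩
  exact ⟨(IsZariskiLocalAtTarget.iff_of_iSup_eq_top (P := @IsFinite) V hsup).2 fun i =>
      restrict_of_SpecMap_app @IsFinite f (hV i) ((IsFinite.SpecMap_iff _).2 (h1 i)),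
    (IsZariskiLocalAtTarget.iff_of_iSup_eq_top (P := @Flat) V hsup).2 fun i =>
      restrict_of_SpecMap_app @Flat f (hV i) (Flat.SpecMap_iff.2 (h2 i)),
    (IsZariskiLocalAtTarget.iff_of_iSup_eq_top (P := @LocallyOfFinitePresentation) V hsup).2 fun i =>
      restrict_of_SpecMap_app @LocallyOfFinitePresentation f (hV i) ((LocallyOfFinitePresentation.SpecMap_iff _).2 (h3 i))⟩

theorem finrank_of_push (f : X ⟶ S) [IsFinite f] [Flat f] {d : ℕ}
    (h : FlatMod.IsFinLocFreeOfRank d ((Scheme.Modules.pushforward f).obj (Coh.structureModule X))) (x : S) :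
    f.finrank x = d := by
  obtain ⟨U, hxU, ⟨e⟩⟩ := h x
  obtain ⟨V, hV, hxV, hVU⟩ := Opens.isBasis_iff_nbhd.mp S.isBasis_affineOpens hxU
  obtain ⟨b, hb⟩ := exists_basis_of_push f rfl e hVU
  letI := (f.app V).hom.toAlgebra
  let e' : (Fin d → Γ(S, V)) ≃ₗ[Γ(S, V)] Γ(X, f ⁻¹ᵁ V) :=
    LinearEquiv.ofBijective (Fintype.linearCombination Γ(S, V) b) (by
      convert hb using 1
      funext c
      simp only [Fintype.linearCombination_apply, Algebra.smul_def]
      rfl)
  haveI : Nontrivial Γ(S, V) := (hV.primeIdealOf ⟨x, hxV⟩).nontrivial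
  haveI : Module.Free Γ(S, V) Γ(X, f ⁻¹ᵁ V) := Module.Free.of_equiv e'
  haveI : Module.Finite Γ(S, V) Γ(X, f ⁻¹ᵁ V) := Module.Finite.equiv e'
  rw [finrank_eq_rankAtStalk f hV hxV, Module.rankAtStalk_eq_finrank_of_free, ← e'.finrank_eq]
  simp

end Groth.Agent.FinLocFree
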